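import Mathlib
import Groth.Prelude.Def_Flat
import Groth.Prelude.Def_MoreMor
import Groth.Agent.Lib.Helper12.SchemeDimFT
import Groth.Agent.Lib.Helper22.CMGlue

/-!
# The fibre of `Spec B ⟶ Spec R` over a prime `p` is `Spec (κ(p) ⊗[R] B)` (helper14)

A controlled isomorphism, compatible with the canonical morphisms to `Spec B`, and its
consequences for local dimensions and stalks.
-/

set_option autoImplicit false
set_option linter.style.haveILetI false
universe u

open AlgebraicGeometry CategoryTheory Limits TensorProduct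

namespace Groth.Agent.Lib.Helper14.PiDecomp

variable (R B : Type u) [CommRing R] [CommRing B] [Algebra R B] (p : PrimeSpectrum R)

/-- `Spec B ⟶ Spec R`. -/
noncomputable abbrev specMap : Spec (CommRingCat.of B) ⟶ Spec (CommRingCat.of R) :=
  Spec.map (CommRingCat.ofHom (algebraMap R B))

/-- `Spec (κ(p) ⊗[R] B) ⟶ Spec B`. -/
noncomputable abbrev fibToSpec :
    Spec (CommRingCat.of (p.asIdeal.Fiber B)) ⟶ Spec (CommRingCat.of B) :=
  Spec.map (CommRingCat.ofHom (Algebra.TensorProduct.includeRight
    (R := R) (A := p.asIdeal.ResidueField) (B := B)).toRingHom)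

theorem isPullback_tensor :
    IsPullback (fibToSpec R B p)
      (Spec.map (CommRingCat.ofHom (algebraMap p.asIdeal.ResidueField (p.asIdeal.Fiber B))))
      (specMap R B)
      (Spec.map (CommRingCat.ofHom (algebraMap R p.asIdeal.ResidueField))) := by
  refine (IsPullback.of_iso_pullback ⟨?_⟩ (pullbackSpecIso R p.asIdeal.ResidueField B).symm
    ?_ ?_).flip
  · rw [← Spec.map_comp, ← Spec.map_comp]
    congr 1
    ext x
    simp [Algebra.TensorProduct.algebraMap_apply]
  · simp only [Iso.symm_hom]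
    rw [pullbackSpecIso_inv_fst']
  · simp only [Iso.symm_hom]
    rw [pullbackSpecIso_inv_snd]
    rfl

theorem isPullback_fiber :
    IsPullback (fibToSpec R B p)
      (Spec.map (CommRingCat.ofHom (algebraMap p.asIdeal.ResidueField (p.asIdeal.Fiber B))) ≫
        Spec.map (Scheme.Spec.residueFieldIso (CommRingCat.of R) p).hom)
      (specMap R B)
      ((Spec (CommRingCat.of R)).fromSpecResidueField p) := by
  have hiso : IsIso (Spec.map (Scheme.Spec.residueFieldIso (CommRingCat.of R) p).hom) :=
    inferInstance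
  refine IsPullback.of_iso (isPullback_tensor R B p) (Iso.refl _) (Iso.refl _)
    (asIso (Spec.map (Scheme.Spec.residueFieldIso (CommRingCat.of R) p).hom)) (Iso.refl _)
    (by simp) (by simp) (by simp) ?_
  simp only [asIso_hom, Iso.refl_hom, Category.comp_id]
  rw [← Scheme.Spec.map_residueFieldIso_inv_eq_fromSpecResidueField (CommRingCat.of R) p,
    ← Category.assoc, ← Spec.map_comp, Iso.inv_hom_id, Spec.map_id, Category.id_comp]

/-- the fibre over `p` is the spectrum of the fibre ring. -/
noncomputable def fiberIso :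
    (specMap R B).fiber p ≅ Spec (CommRingCat.of (p.asIdeal.Fiber B)) :=
  (IsPullback.of_hasPullback (specMap R B)
    ((Spec (CommRingCat.of R)).fromSpecResidueField p)).isoIsPullback _ _ (isPullback_fiber R B p)

theorem fiberIso_hom_fibToSpec :
    (fiberIso R B p).hom ≫ fibToSpec R B p = (specMap R B).fiberι p :=
  IsPullback.isoIsPullback_hom_fst _ _ _ _

theorem fiberIso_inv_fiberι :
    (fiberIso R B p).inv ≫ (specMap R B).fiberι p = fibToSpec R B p :=
  IsPullback.isoIsPullback_inv_fst _ _ _ _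

section General

variable {X Y : Scheme.{u}} (f : X ⟶ Y)

theorem map_fiberι (y : Y) (z : f.fiber y) : f (f.fiberι y z) = y := by
  have : f.fiberι y z ∈ Set.range (f.fiberι y) := ⟨z, rfl⟩
  rw [Scheme.Hom.range_fiberι] at this
  exact this

theorem localDim_fiber_congr (y₁ y₂ : Y) (h : y₁ = y₂)
    (z₁ : f.fiber y₁) (z₂ : f.fiber y₂) (hz : f.fiberι y₁ z₁ = f.fiberι y₂ z₂) :
    FlatMor.localDim (f.fiber y₁) z₁ = FlatMor.localDim (f.fiber y₂) z₂ := by
  subst h
  have : z₁ = z₂ := (f.fiberι y₁).isEmbedding.injective hz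
  subst this
  rfl

theorem stalk_fiber_congr (y₁ y₂ : Y) (h : y₁ = y₂)
    (z₁ : f.fiber y₁) (z₂ : f.fiber y₂) (hz : f.fiberι y₁ z₁ = f.fiberι y₂ z₂) :
    Nonempty ((f.fiber y₁).presheaf.stalk z₁ ≃+* (f.fiber y₂).presheaf.stalk z₂) := by
  subst h
  have : z₁ = z₂ := (f.fiberι y₁).isEmbedding.injective hz
  subst this
  exact ⟨RingEquiv.refl _⟩

theorem fibreDimAt_fiberι (y : Y) (z : f.fiber y) :
    FlatMor.fibreDimAt f (f.fiberι y z) = FlatMor.localDim (f.fiber y) z := by
  unfold FlatMor.fibreDimAt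
  exact localDim_fiber_congr f _ _ (map_fiberι f y z) _ _ (f.fiberι_asFiber _)

theorem stalk_asFiber_fiberι (y : Y) (z : f.fiber y) :
    Nonempty ((f.fiber (f (f.fiberι y z))).presheaf.stalk (f.asFiber (f.fiberι y z)) ≃+*
      (f.fiber y).presheaf.stalk z) :=
  stalk_fiber_congr f _ _ (map_fiberι f y z) _ _ (f.fiberι_asFiber _)

theorem localDim_iso {F G : Scheme.{u}} (φ : F ≅ G) (z : F) :
    FlatMor.localDim F z = FlatMor.localDim G (φ.hom z) :=
  Groth.Agent.Lib.Helper12.SchemeDimFT.localDim_eq_of_isOpenEmbedding _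
    φ.hom.isOpenEmbedding z

theorem stalk_iso {F G : Scheme.{u}} (φ : F ≅ G) (z : F) :
    Nonempty (F.presheaf.stalk z ≃+* G.presheaf.stalk (φ.hom z)) :=
  ⟨(asIso (φ.hom.stalkMap z)).symm.commRingCatIsoToRingEquiv⟩

theorem stalk_Spec (A : Type u) [CommRing A] (q : PrimeSpectrum A) :
    Nonempty ((Spec (CommRingCat.of A)).presheaf.stalk q ≃+* Localization.AtPrime q.asIdeal) :=
  ⟨(Spec.stalkIso (CommRingCat.of A) q).commRingCatIsoToRingEquiv⟩

end General

section Consequences

/-- the point of `Spec B` under a point of the fibre ring. -/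
noncomputable def fibPt (q : PrimeSpectrum (p.asIdeal.Fiber B)) : PrimeSpectrum B :=
  fibToSpec R B p q

theorem specMap_fibPt (q : PrimeSpectrum (p.asIdeal.Fiber B)) :
    (specMap R B) (fibPt R B p q) = p := by
  have h : fibPt R B p q = (specMap R B).fiberι p ((fiberIso R B p).inv q) := by
    rw [← Scheme.Hom.comp_apply, fiberIso_inv_fiberι]
    rfl
  rw [h]
  exact map_fiberι (specMap R B) p ((fiberIso R B p).inv q)

theorem fibreDimAt_fibPt (q : PrimeSpectrum (p.asIdeal.Fiber B)) :
    FlatMor.fibreDimAt (specMap R B) (fibPt R B p q) =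
      FlatMor.localDim (PrimeSpectrum (p.asIdeal.Fiber B)) q := by
  have h : fibPt R B p q = (specMap R B).fiberι p ((fiberIso R B p).inv q) := by
    rw [← Scheme.Hom.comp_apply, fiberIso_inv_fiberι]
    rfl
  rw [h, fibreDimAt_fiberι, localDim_iso (fiberIso R B p)]
  have : (fiberIso R B p).hom ((fiberIso R B p).inv q) = q := by
    rw [← Scheme.Hom.comp_apply, Iso.inv_hom_id]
    rfl
  rw [this]
  rfl

theorem stalk_fibPt (q : PrimeSpectrum (p.asIdeal.Fiber B)) :
    Nonempty (((specMap R B).fiber ((specMap R B) (fibPt R B p q))).presheaf.stalk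
      ((specMap R B).asFiber (fibPt R B p q)) ≃+* Localization.AtPrime q.asIdeal) := by
  have h : fibPt R B p q = (specMap R B).fiberι p ((fiberIso R B p).inv q) := by
    rw [← Scheme.Hom.comp_apply, fiberIso_inv_fiberι]
    rfl
  rw [h]
  obtain ⟨e1⟩ := stalk_asFiber_fiberι (specMap R B) p ((fiberIso R B p).inv q)
  obtain ⟨e2⟩ := stalk_iso (fiberIso R B p) ((fiberIso R B p).inv q)
  have : (fiberIso R B p).hom ((fiberIso R B p).inv q) = q := by
    rw [← Scheme.Hom.comp_apply, Iso.inv_hom_id]
    rfl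
  rw [this] at e2
  obtain ⟨e3⟩ := stalk_Spec (p.asIdeal.Fiber B) q
  exact ⟨e1.trans (e2.trans e3)⟩

theorem exists_fibPt_eq (x : PrimeSpectrum B) :
    ∃ q : PrimeSpectrum (((specMap R B) x).asIdeal.Fiber B),
      fibPt R B ((specMap R B) x) q = x := by
  refine ⟨(fiberIso R B ((specMap R B) x)).hom ((specMap R B).asFiber x), ?_⟩
  have : fibPt R B ((specMap R B) x)
      ((fiberIso R B ((specMap R B) x)).hom ((specMap R B).asFiber x)) =
      ((fiberIso R B ((specMap R B) x)).hom ≫ fibToSpec R B ((specMap R B) x))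
        ((specMap R B).asFiber x) := rfl
  rw [this, fiberIso_hom_fibToSpec]
  exact (specMap R B).fiberι_asFiber x

end Consequences

end Groth.Agent.Lib.Helper14.PiDecomp
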