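import Mathlib
import Groth.Agent.Lib.Helper12.DimFT2

/-!
# Local dimension of the spectrum of a finite type algebra over a field at minimal / maximal primes
(helper14)
-/

set_option autoImplicit false
set_option linter.style.haveILetI false
universe u

namespace Groth.Agent.Lib.Helper14.PiDecomp

open Groth.Agent.Lib.Helper12

theorem ringKrullDim_quotient_minimalPrime (κ A : Type u) [Field κ] [CommRing A] [Algebra κ A]
    [Algebra.FiniteType κ A] (P : Ideal A) (hP : P ∈ minimalPrimes A) :
    ringKrullDim (A ⧸ P) = FlatMor.localDim (PrimeSpectrum A) ⟨P, hP.1.1⟩ := by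
  rw [DimFT2.localDim_primeSpectrum κ A]
  have h0 : Order.height (⟨P, hP.1.1⟩ : PrimeSpectrum A) = 0 := by
    rw [Order.height_eq_zero]
    intro q hq
    exact hP.2 ⟨q.2, bot_le⟩ hq
  rw [h0, zero_add]
  exact DimFT.ringKrullDim_quotient_eq_coheight (⟨P, hP.1.1⟩ : PrimeSpectrum A)

theorem height_maximal (κ A : Type u) [Field κ] [CommRing A] [Algebra κ A]
    [Algebra.FiniteType κ A] (m : Ideal A) (hm : m.IsMaximal) :
    ((m.height : ℕ∞) : WithBot ℕ∞) = FlatMor.localDim (PrimeSpectrum A) ⟨m, hm.isPrime⟩ := by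
  rw [DimFT2.localDim_primeSpectrum κ A]
  have h0 : Order.coheight (⟨m, hm.isPrime⟩ : PrimeSpectrum A) = 0 := by
    rw [Order.coheight_eq_zero]
    intro q hq
    exact (hm.eq_of_le q.2.ne_top hq).ge
  rw [h0, add_zero, ← PrimeSpectrum.height_eq_orderHeight]

end Groth.Agent.Lib.Helper14.PiDecomp
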