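import Mathlib
import Groth.Agent.Lib.Helper14.PiDecomp.FiberIso
import Groth.Agent.Lib.Helper14.PiDecomp.FieldDim
import Groth.Agent.Lib.Helper14.PiDecomp.Clopen
import Groth.Agent.Lib.Helper14.CMDim2
import Groth.Agent.Lib.Helper14.CMFibres5
import Groth.Agent.Lib.Helper12.Equidim

/-!
# Decomposition of a flat finitely presented algebra with Cohen–Macaulay fibres by fibre dimension
(helper14)
-/

set_option autoImplicit false
set_option linter.style.haveILetI false
universe u

open AlgebraicGeometry CategoryTheory TensorProduct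

namespace Groth.Agent.Lib.Helper14.PiDecomp

open Groth.Agent.Lib.Helper12

section

variable (R S : Type u) [CommRing R] [CommRing S] [Algebra R S]

theorem flat_specMap [Module.Flat R S] : Flat (specMap R S) :=
  (HasRingHomProperty.Spec_iff (P := @Flat)).mpr (RingHom.flat_algebraMap_iff.mpr inferInstance)

theorem lfp_specMap [Algebra.FinitePresentation R S] :
    LocallyOfFinitePresentation (specMap R S) :=
  (HasRingHomProperty.Spec_iff (P := @LocallyOfFinitePresentation)).mpr
    (RingHom.finitePresentation_algebraMap.mpr inferInstance)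

theorem isCMAt_specMap [Module.Flat R S]
    (hCM : ∀ p : PrimeSpectrum R, LocCoh.IsCohenMacaulayRing (p.asIdeal.Fiber S))
    (x : PrimeSpectrum S) : MoreMor.IsCMAt (specMap R S) x := by
  haveI := flat_specMap R S
  refine ⟨Flat.stalkMap (specMap R S) x, ?_⟩
  obtain ⟨q, hq⟩ := exists_fibPt_eq R S x
  have key : ∀ x' : PrimeSpectrum S, fibPt R S ((specMap R S) x) q = x' →
      Nonempty (((specMap R S).fiber ((specMap R S) x')).presheaf.stalk
        ((specMap R S).asFiber x') ≃+* Localization.AtPrime q.asIdeal) := by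
    rintro _ rfl
    exact stalk_fibPt R S ((specMap R S) x) q
  obtain ⟨e⟩ := key x hq
  haveI := (hCM ((specMap R S) x)).isCohenMacaulayLocalRing_localization q.asIdeal
  exact Groth.Agent.Lib.Helper22.CMG.isCMLocalRing_of_ringEquiv
    (R := Localization.AtPrime q.asIdeal) e.symm

theorem factor_props [Module.Flat R S] [Algebra.FinitePresentation R S]
    (hCM : ∀ p : PrimeSpectrum R, LocCoh.IsCohenMacaulayRing (p.asIdeal.Fiber S))
    (e : S) (he : IsIdempotentElem e) (d : ℕ)
    (hmem : ∀ x : PrimeSpectrum S,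
      e ∉ x.asIdeal ↔ FlatMor.fibreDimAt (specMap R S) x = ((d : ℕ) : WithBot ℕ∞)) :
    Module.Flat R (S ⧸ Ideal.span {1 - e}) ∧
      Algebra.FinitePresentation R (S ⧸ Ideal.span {1 - e}) ∧
      (∀ p : PrimeSpectrum R,
        LocCoh.IsCohenMacaulayRing (p.asIdeal.Fiber (S ⧸ Ideal.span {1 - e}))) ∧
      ∀ (p : PrimeSpectrum R), ∀ P ∈ minimalPrimes (p.asIdeal.Fiber (S ⧸ Ideal.span {1 - e})),
        ringKrullDim (p.asIdeal.Fiber (S ⧸ Ideal.span {1 - e}) ⧸ P) =
          ((d : ℕ) : WithBot ℕ∞) := by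
  haveI hloc : IsLocalization.Away e (S ⧸ Ideal.span {1 - e}) :=
    IsLocalization.Away.quotient_of_isIdempotentElem he
  haveI : Module.Flat S (S ⧸ Ideal.span {1 - e}) :=
    IsLocalization.flat (S ⧸ Ideal.span {1 - e}) (Submonoid.powers e)
  haveI hflat : Module.Flat R (S ⧸ Ideal.span {1 - e}) :=
    Module.Flat.trans R S (S ⧸ Ideal.span {1 - e})
  haveI hfp : Algebra.FinitePresentation R (S ⧸ Ideal.span {1 - e}) :=
    Algebra.FinitePresentation.quotient (Submodule.fg_span_singleton _)
  refine ⟨hflat, hfp, ?_, ?_⟩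
  · intro p
    let E := IsLocalization.Away.tensorProductEquivTMulRight R p.asIdeal.ResidueField e
      (S ⧸ Ideal.span {1 - e})
    haveI := hCM p
    haveI : LocCoh.IsCohenMacaulayRing
        (Localization.Away ((1 : p.asIdeal.ResidueField) ⊗ₜ[R] e)) :=
      isCM_localization (p.asIdeal.Fiber S)
        (Submonoid.powers ((1 : p.asIdeal.ResidueField) ⊗ₜ[R] e))
    exact Groth.Agent.Lib.Helper14.CMFibres.isCohenMacaulayRing_of_ringEquiv E.symm.toRingEquiv
  · intro p P hP
    haveI : Algebra.FiniteType R (S ⧸ Ideal.span {1 - e}) := inferInstance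
    haveI : Algebra.FiniteType p.asIdeal.ResidueField
        (p.asIdeal.Fiber (S ⧸ Ideal.span {1 - e})) := inferInstance
    rw [ringKrullDim_quotient_minimalPrime p.asIdeal.ResidueField _ P hP,
      ← fibreDimAt_fibPt R (S ⧸ Ideal.span {1 - e}) p]
    have hcomp : specMap R (S ⧸ Ideal.span {1 - e}) =
        specMap S (S ⧸ Ideal.span {1 - e}) ≫ specMap R S := by
      rw [← Spec.map_comp, ← CommRingCat.ofHom_comp, ← IsScalarTower.algebraMap_eq]
    haveI : IsOpenImmersion (specMap S (S ⧸ Ideal.span {1 - e})) :=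
      IsOpenImmersion.of_isLocalization e
    haveI := lfp_specMap R S
    rw [FibreDimStage.fibreDimAt_congr hcomp, Equidim.fibreDimAt_comp_openImmersion, ← hmem]
    intro h
    set y := fibPt R (S ⧸ Ideal.span {1 - e}) p ⟨P, hP.1.1⟩ with hy
    have h1 : algebraMap S (S ⧸ Ideal.span {1 - e}) e ∈ y.asIdeal := h
    rw [show algebraMap S (S ⧸ Ideal.span {1 - e}) e = 1 from mk_idem_eq_one e] at h1
    exact y.2.ne_top ((Ideal.eq_top_iff_one _).mpr h1)

theorem main [Module.Flat R S] [Algebra.FinitePresentation R S]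
    (hCM : ∀ p : PrimeSpectrum R, LocCoh.IsCohenMacaulayRing (p.asIdeal.Fiber S)) :
    ∃ (N : ℕ) (T : Fin (N + 1) → Type u) (_ : ∀ d, CommRing (T d)) (_ : ∀ d, Algebra R (T d)),
      Nonempty (S ≃ₐ[R] ((d : Fin (N + 1)) → T d)) ∧
        ∀ d : Fin (N + 1), Module.Flat R (T d) ∧ Algebra.FinitePresentation R (T d) ∧
          (∀ p : PrimeSpectrum R, LocCoh.IsCohenMacaulayRing (p.asIdeal.Fiber (T d))) ∧
          ∀ (p : PrimeSpectrum R), ∀ P ∈ minimalPrimes (p.asIdeal.Fiber (T d)),
            ringKrullDim (p.asIdeal.Fiber (T d) ⧸ P) = ((d : ℕ) : WithBot ℕ∞) := by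
  have hcm := isCMAt_specMap R S hCM
  haveI := lfp_specMap R S
  have hlc := Groth.Agent.Lib.Helper14.CMDim.isLocallyConstant_fibreDimAt (specMap R S) hcm
  have hnat : ∀ x : PrimeSpectrum S,
      ∃ n : ℕ, FlatMor.fibreDimAt (specMap R S) x = (n : WithBot ℕ∞) := by
    intro x
    obtain ⟨n, U, hxU, g, -, -, -, -, h2, -⟩ :=
      Groth.Agent.Lib.Helper14.CMDim.exists_flat_quasiFinite (specMap R S) x (hcm x)
    exact ⟨n, h2 ⟨x, hxU⟩⟩
  obtain ⟨N, e, he, hmem⟩ :=
    exists_idempotents S (fun x => FlatMor.fibreDimAt (specMap R S) x) hlc hnat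
  exact ⟨N, fun d => S ⧸ Ideal.span {1 - e d}, fun d => inferInstance, fun d => inferInstance,
    nonempty_algEquiv_pi R S e he,
    fun d => factor_props R S hCM (e d) (he.idem d) d (hmem d)⟩

end

end Groth.Agent.Lib.Helper14.PiDecomp
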