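import Mathlib
import Groth.Agent.Lib.Helper14.PiDecomp.Main
import Groth.Agent.Lib.Helper14.GrpCM
import Groth.Agent.Lib.Helper14.HomogDim

/-!
# Decomposition of a Cohen–Macaulay finite type algebra over a field into equidimensional pieces
(helper14)
-/

set_option autoImplicit false
set_option linter.style.haveILetI false
universe u

open AlgebraicGeometry CategoryTheory TensorProduct

namespace Groth.Agent.Lib.Helper14.PiDecomp

open Groth.Agent.Lib.Helper12

theorem main_field (k S : Type u) [Field k] [CommRing S]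
    [Algebra k S] [Algebra.FiniteType k S] [hS : LocCoh.IsCohenMacaulayRing S] :
    ∃ (N : ℕ) (T : Fin (N + 1) → Type u) (_ : ∀ d, CommRing (T d)) (_ : ∀ d, Algebra k (T d)),
      Nonempty (S ≃ₐ[k] ((d : Fin (N + 1)) → T d)) ∧
        ∀ (d : Fin (N + 1)) (m : Ideal (T d)), m.IsMaximal → m.height = (d : ℕ) := by
  haveI : IsNoetherianRing k := inferInstance
  haveI : Algebra.FinitePresentation k S :=
    (Algebra.FinitePresentation.of_finiteType).mp inferInstance
  haveI := lfp_specMap k S
  haveI : Subsingleton ↥(Spec (CommRingCat.of k)) :=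
    Groth.Agent.Lib.Helper14.HomogDim.subsingleton_Spec_of_artinian_local k
  have hcm : ∀ x : PrimeSpectrum S, MoreMor.IsCMAt (specMap k S) x := by
    intro x
    have h1 : x ∈ Groth.Agent.Lib.Helper14.ConsFibre.cmSet (specMap k S) := by
      refine (Groth.Agent.Lib.Helper14.GrpCM.mem_cmSet_iff_of_field (specMap k S) x).mpr ?_
      obtain ⟨e⟩ := stalk_Spec S x
      haveI := hS.isCohenMacaulayLocalRing_localization x.asIdeal
      exact Groth.Agent.Lib.Helper22.CMG.isCMLocalRing_of_ringEquiv
        (R := Localization.AtPrime x.asIdeal) e.symm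
    exact ⟨Flat.stalkMap (specMap k S) x, h1⟩
  have hfd : ∀ x : PrimeSpectrum S, FlatMor.fibreDimAt (specMap k S) x =
      FlatMor.localDim (PrimeSpectrum S) x := fun x =>
    Groth.Agent.Lib.Helper14.HomogDim.fibreDimAt_eq_localDim_of_subsingleton (specMap k S) x
  have hlc : IsLocallyConstant (fun x : PrimeSpectrum S => FlatMor.localDim (PrimeSpectrum S) x) := by
    have := Groth.Agent.Lib.Helper14.CMDim.isLocallyConstant_fibreDimAt (specMap k S) hcm
    have heq : (fun x : PrimeSpectrum S => FlatMor.localDim (PrimeSpectrum S) x) =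
        fun x : ↥(Spec (CommRingCat.of S)) => FlatMor.fibreDimAt (specMap k S) x := by
      funext x
      exact (hfd x).symm
    rw [heq]
    exact this
  have hnat : ∀ x : PrimeSpectrum S,
      ∃ n : ℕ, FlatMor.localDim (PrimeSpectrum S) x = (n : WithBot ℕ∞) := by
    intro x
    obtain ⟨n, U, hxU, g, -, -, -, -, h2, -⟩ :=
      Groth.Agent.Lib.Helper14.CMDim.exists_flat_quasiFinite (specMap k S) x (hcm x)
    exact ⟨n, (hfd x).symm.trans (h2 ⟨x, hxU⟩)⟩
  obtain ⟨N, e, he, hmem⟩ :=
    exists_idempotents S (fun x => FlatMor.localDim (PrimeSpectrum S) x) hlc hnat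
  refine ⟨N, fun d => S ⧸ Ideal.span {1 - e d}, fun d => inferInstance, fun d => inferInstance,
    nonempty_algEquiv_pi k S e he, ?_⟩
  intro d m hm
  haveI hloc : IsLocalization.Away (e d) (S ⧸ Ideal.span {1 - e d}) :=
    IsLocalization.Away.quotient_of_isIdempotentElem (he.idem d)
  haveI : IsOpenImmersion (specMap S (S ⧸ Ideal.span {1 - e d})) :=
    IsOpenImmersion.of_isLocalization (e d)
  have h1 := height_maximal k (S ⧸ Ideal.span {1 - e d}) m hm
  have h2 := SchemeDimFT.localDim_eq_of_isOpenEmbedding _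
    (specMap S (S ⧸ Ideal.span {1 - e d})).isOpenEmbedding (⟨m, hm.isPrime⟩ : PrimeSpectrum _)
  have h3 : FlatMor.localDim (PrimeSpectrum S)
      ((specMap S (S ⧸ Ideal.span {1 - e d})) (⟨m, hm.isPrime⟩ : PrimeSpectrum _)) =
      ((d : ℕ) : WithBot ℕ∞) := by
    rw [← hmem d]
    intro h
    have h4 : algebraMap S (S ⧸ Ideal.span {1 - e d}) (e d) ∈ m := h
    rw [show algebraMap S (S ⧸ Ideal.span {1 - e d}) (e d) = 1 from mk_idem_eq_one (e d)] at h4
    exact hm.ne_top ((Ideal.eq_top_iff_one _).mpr h4)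
  have h5 : ((m.height : ℕ∞) : WithBot ℕ∞) = ((d : ℕ) : WithBot ℕ∞) :=
    h1.trans (h2.trans h3)
  exact_mod_cast h5

end Groth.Agent.Lib.Helper14.PiDecomp
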